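import Groth.Agent.Synt29.OmegaAffine
import Groth.Agent.QCoh.PullbackBC

/-!
# Affine sections of a sheaf of differentials, with the derivation
-/

set_option autoImplicit false
set_option linter.style.haveILetI false

universe u

open CategoryTheory CategoryTheory.Limits AlgebraicGeometry TopologicalSpace Opposite

namespace Groth.Agent.Vb34

open Synt29.OmegaStalk

theorem appIso_inv_fromSpec_toΓ {X : Scheme.{u}} {U : X.Opens} (hU : IsAffineOpen U) (b : Γ(X, U))
    (h : hU.fromSpec ''ᵁ ⊤ ≤ U) :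
    (hU.fromSpec.appIso ⊤).inv (OmAff.toΓ Γ(X, U) b) = X.presheaf.map (homOfLE h).op b := by
  apply (ConcreteCategory.bijective_of_isIso (hU.fromSpec.appIso ⊤).hom).1
  rw [Iso.inv_hom_id_apply, Scheme.Hom.appIso_hom', ← ConcreteCategory.comp_apply,
    Scheme.Hom.map_appLE, Scheme.Hom.appLE, hU.fromSpec_app_self, Category.assoc, ← Functor.map_comp,
    ConcreteCategory.comp_apply]
  exact congr($((congrArg (Spec Γ(X, U)).presheaf.map (Subsingleton.elim _ (𝟙 _))).trans
    ((Spec Γ(X, U)).presheaf.map_id _)) _).symm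

/-- Sections over an affine open are generated freely by the differentials. -/
theorem bijective_of_map_D {X Y : Scheme.{u}} {f : X ⟶ Y} {Ω : X.Modules} {d : OmegaSh.Der f Ω}
    (hd : OmegaSh.IsUniversal d) {U : X.Opens} (hU : IsAffineOpen U) {V : Y.Opens}
    (hV : IsAffineOpen V) (e : U ≤ f ⁻¹ᵁ V) :
    letI := (f.appLE V U e).hom.toAlgebra
    ∀ L : Ω[Γ(X, U)⁄Γ(Y, V)] →+ Γ(Ω, U),
      (∀ (b : Γ(X, U)) z, L (b • z) = b • L z) →
      (∀ b, L (KaehlerDifferential.D Γ(Y, V) Γ(X, U) b) = d.app U b) → Function.Bijective L := by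
  letI := (f.appLE V U e).hom.toAlgebra
  intro L hsmul hD
  obtain ⟨i, hi⟩ := exists_iso_chart hd hU hV e
  let j := hU.fromSpec
  have hle : j ''ᵁ ⊤ ≤ U := (QCoh.image_top_fromSpec hU).le
  let G : Γ(Ω, U) → Γ(OmegaLib.kTilde Γ(Y, V) Γ(X, U), ⊤) := fun x =>
    i.hom.app ⊤ (show Γ(Ω.restrict j, ⊤) from QCoh.toChart hU Ω x)
  have hGb : Function.Bijective G :=
    (ConcreteCategory.bijective_of_isIso (i.hom.app ⊤)).comp (QCoh.bijective_toChart hU Ω)
  have hGs : ∀ (b : Γ(X, U)) x, G (b • x) = OmAff.toΓ Γ(X, U) b • G x := fun b x => by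
    show i.hom.app ⊤ (show Γ(Ω.restrict j, ⊤) from QCoh.toChart hU Ω (b • x)) = _
    rw [QCoh.toChart_smul]
    refine Eq.trans ?_ (i.hom.app_smul (OmAff.toΓ Γ(X, U) b) _)
    exact congrArg (fun c : Γ(Spec Γ(X, U), ⊤) =>
      i.hom.app ⊤ (c • (show Γ(Ω.restrict j, ⊤) from QCoh.toChart hU Ω x)))
      (OmegaLib.toΓ_res Γ(X, U) b)
  have hGa : ∀ x y, G (x + y) = G x + G y := fun x y =>
    (congrArg (i.hom.app ⊤) (QCoh.toChart_add hU Ω x y)).trans (map_add _ _ _)
  have key : ∀ z, G (L z) = OmegaLib.toTop Γ(Y, V) Γ(X, U) z := fun z => by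
    have hz : z ∈ Submodule.span Γ(X, U) (Set.range (KaehlerDifferential.D Γ(Y, V) Γ(X, U))) := by
      rw [KaehlerDifferential.span_range_derivation]; trivial
    induction hz using Submodule.span_induction with
    | mem y hy =>
      obtain ⟨b, rfl⟩ := hy
      refine Eq.trans ?_ (hi b)
      refine congrArg (i.hom.app ⊤) ?_
      show Ω.presheaf.map (homOfLE hle).op (L _) = d.app (j ''ᵁ ⊤) ((j.appIso ⊤).inv _)
      rw [hD, appIso_inv_fromSpec_toΓ hU b hle]
      exact (d.d_map (homOfLE hle).op b).symm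
    | zero =>
      rw [map_zero, map_zero]
      exact left_eq_add.mp (show G 0 = G 0 + G 0 by conv_lhs => rw [← add_zero (0 : Γ(Ω, U)), hGa])
    | add y y' _ _ h h' => rw [map_add, hGa, h, h', map_add]
    | smul b y _ h => rw [hsmul, hGs, h, OmegaLib.toTop_smul]
  constructor
  · intro a b hab
    exact (top_toTop_bijective _ _).1 (by rw [← key, ← key, hab])
  · intro x
    obtain ⟨z, hz⟩ := (top_toTop_bijective Γ(Y, V) Γ(X, U)).2 (G x)
    exact ⟨z, hGb.1 ((key z).trans hz)⟩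

end Groth.Agent.Vb34
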