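import Mathlib.LinearAlgebra.SymmetricAlgebra.Basic
import Mathlib.RingTheory.Kaehler.Basic
import Mathlib.RingTheory.IsTensorProduct
import Mathlib.Algebra.TrivSqZeroExt.Basic

/-!
# Differentials of a symmetric algebra
-/

set_option autoImplicit false
set_option linter.style.haveILetI false

universe u

open TensorProduct TrivSqZeroExt

namespace Groth.Agent.Vb34

variable {R B : Type u} [CommRing R] [CommRing B] [Algebra R B]
  {M : Type u} [AddCommGroup M] [Module R M] (j : M →ₗ[R] B)
  {N : Type u} [AddCommGroup N] [Module R N] [Module B N] [IsScalarTower R B N] (l : M →ₗ[R] N)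

/-- If `B` is the symmetric algebra of `M`, then `B ⊗ M → Ω`, `m ↦ d m` is bijective. -/
theorem bijective_lift_symmetricAlgebra (hB : Function.Bijective (SymmetricAlgebra.lift j))
    (hl : IsBaseChange B l) :
    Function.Bijective (hl.lift ((KaehlerDifferential.D R B).toLinearMap ∘ₗ j)) := by
  letI : Module Bᵐᵒᵖ N := Module.compHom N ((RingHom.id B).fromOpposite mul_comm)
  haveI : IsCentralScalar B N := ⟨fun _ _ => rfl⟩
  letI : Module Rᵐᵒᵖ N := Module.compHom N ((RingHom.id R).fromOpposite mul_comm)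
  haveI : IsCentralScalar R N := ⟨fun _ _ => rfl⟩
  haveI : IsScalarTower R Bᵐᵒᵖ N := ⟨fun r x n => smul_assoc r x.unop n⟩
  let e := AlgEquiv.ofBijective (SymmetricAlgebra.lift j) hB
  let g : SymmetricAlgebra R M →ₐ[R] TrivSqZeroExt B N := SymmetricAlgebra.lift
    ((TrivSqZeroExt.inlAlgHom R B N).toLinearMap ∘ₗ j +
      ((TrivSqZeroExt.inrHom B N).restrictScalars R) ∘ₗ l)
  have hg : ∀ m, g (SymmetricAlgebra.ι R M m) = inl (j m) + inr (l m) := fun m =>
    SymmetricAlgebra.lift_ι_apply _ _
  have hfst : (TrivSqZeroExt.fstHom R B N).comp g = SymmetricAlgebra.lift j := by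
    refine SymmetricAlgebra.algHom_ext (LinearMap.ext fun m => ?_)
    show (g (SymmetricAlgebra.ι R M m)).fst = SymmetricAlgebra.lift j (SymmetricAlgebra.ι R M m)
    rw [hg, SymmetricAlgebra.lift_ι_apply]
    simp
  have hfst' : ∀ b, (g (e.symm b)).fst = b := fun b => by
    have := AlgHom.congr_fun hfst (e.symm b)
    exact this.trans (e.apply_symm_apply b)
  let δ : Derivation R B N := Derivation.mk'
    ((TrivSqZeroExt.sndHom B N).restrictScalars R ∘ₗ g.toLinearMap ∘ₗ e.symm.toLinearMap)
    fun a b => by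
      show (g (e.symm (a * b))).snd = a • (g (e.symm b)).snd + b • (g (e.symm a)).snd
      rw [map_mul, map_mul, snd_mul, hfst', hfst', op_smul_eq_smul]
  let Ψ : Ω[B⁄R] →ₗ[B] N := δ.liftKaehlerDifferential
  let Φ : N →ₗ[B] Ω[B⁄R] := hl.lift ((KaehlerDifferential.D R B).toLinearMap ∘ₗ j)
  have hΦ : ∀ m, Φ (l m) = KaehlerDifferential.D R B (j m) := fun m => hl.lift_eq _ m
  have hej : ∀ m, e.symm (j m) = SymmetricAlgebra.ι R M m := fun m => by
    rw [AlgEquiv.symm_apply_eq]
    exact (SymmetricAlgebra.lift_ι_apply _ _).symm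
  have hΨ : ∀ m, Ψ (KaehlerDifferential.D R B (j m)) = l m := fun m => by
    refine (δ.liftKaehlerDifferential_comp_D _).trans ?_
    show (g (e.symm (j m))).snd = l m
    rw [hej, hg]
    simp
  have h1 : Ψ ∘ₗ Φ = LinearMap.id := hl.algHom_ext _ _ fun m => by
    show Ψ (Φ (l m)) = l m
    rw [hΦ, hΨ]
  have h2 : ∀ b, Φ (Ψ (KaehlerDifferential.D R B b)) = KaehlerDifferential.D R B b := by
    intro b
    obtain ⟨a, rfl⟩ := hB.2 b
    induction a using SymmetricAlgebra.induction with
    | algebraMap r => rw [AlgHom.commutes, Derivation.map_algebraMap, map_zero, map_zero]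
    | ι m => rw [SymmetricAlgebra.lift_ι_apply, hΨ, hΦ]
    | mul p q hp hq => simp only [map_mul, Derivation.leibniz, map_add, map_smul, hp, hq]
    | add p q hp hq => simp only [map_add, hp, hq]
  refine ⟨fun x y hxy => ?_, fun z => ⟨Ψ z, ?_⟩⟩
  · exact ((LinearMap.congr_fun h1 x).symm.trans (congrArg Ψ hxy)).trans (LinearMap.congr_fun h1 y)
  · have hz : z ∈ Submodule.span B (Set.range (KaehlerDifferential.D R B)) := by
      rw [KaehlerDifferential.span_range_derivation]; trivial
    show Φ (Ψ z) = z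
    induction hz using Submodule.span_induction with
    | mem y hy => obtain ⟨b, rfl⟩ := hy; exact h2 b
    | zero => rw [map_zero, map_zero]
    | add y y' _ _ h h' => rw [map_add, map_add, h, h']
    | smul b y _ h => rw [map_smul, map_smul, h]

end Groth.Agent.Vb34
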