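import Groth.Agent.Vb34.Basic
import Groth.Agent.Vb34.OmegaSect
import Groth.Agent.Vb34.SymOmega
import Groth.Agent.Nrm34.PBaseChange

/-!
# Differentials of a vector bundle
-/

set_option autoImplicit false
set_option linter.style.haveILetI false

universe u

open CategoryTheory CategoryTheory.Limits AlgebraicGeometry TopologicalSpace Opposite

namespace Groth.Agent.Vb34

theorem isIso_pullback_to_differentials {S : Scheme.{u}} (E : S.Modules) (hE : Coh.IsQCoh E)
    (A : RelSpec.QCAlg S) (j : E ⟶ A.toModule) (hA : RelSpec.IsSymAlg E A j)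
    (Ω' : A.spec.Modules) (d : OmegaSh.Der A.π Ω') (hd : OmegaSh.IsUniversal d)
    (φ : (Scheme.Modules.pullback A.π).obj E ⟶ Ω')
    (hφ : ∀ (U : S.Opens) (t : Γ(E, U)) (t' : Γ(A.spec, A.π ⁻¹ᵁ U)),
      A.gammaMap.app (op U) t' = j.app U t →
        φ.app (A.π ⁻¹ᵁ U) (OmegaSh.pullSect A.π E U t) = d.app (A.π ⁻¹ᵁ U) t') :
    IsIso φ := by
  choose U hU using fun z : A.spec => Opens.mem_iSup.1
    (show A.π z ∈ ⨆ U : S.affineOpens, (U.1 : S.Opens) by rw [iSup_affineOpens_eq_top S]; trivial)
  refine Nrm34.isIso_of_bijective_cover (QCoh.isQCoh_pullback A.π hE)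
    (Synt29.OmegaStalk.isQCoh_of_isUniversal hd) φ (fun z => A.π ⁻¹ᵁ (U z).1)
    (fun z => (aff (U z)).preimage A.π) hU fun z => ?_
  generalize U z = V
  let W : A.spec.Opens := A.π ⁻¹ᵁ V.1
  let R := Γ(S, V.1)
  let B := Γ(A.spec, W)
  let N := Γ((Scheme.Modules.pullback A.π).obj E, W)
  have hW : IsAffineOpen W := (aff V).preimage A.π
  letI algB : Algebra R B := (A.π.appLE V.1 W le_rfl).hom.toAlgebra
  letI : Module R N := Module.compHom N (A.π.appLE V.1 W le_rfl).hom
  haveI : IsScalarTower R B N := IsScalarTower.of_algebraMap_smul fun _ _ => rfl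
  -- the generators as functions
  haveI := RelSpecX.isIso_gammaMap A
  haveI : IsIso (A.gammaMap.app (op V.1)) := NatIso.isIso_app_of_isIso A.gammaMap _
  let γ : B ≃+* A.presheaf.obj (op V.1) :=
    RingEquiv.ofBijective (A.gammaMap.app (op V.1)).hom
      (ConcreteCategory.bijective_of_isIso (A.gammaMap.app (op V.1)))
  have hγ0 : ∀ r : R, γ (algebraMap R B r) = (A.str.app (op V.1)).hom r := fun r => by
    show (A.gammaMap.app (op V.1)).hom (A.π.appLE V.1 W le_rfl r) = _
    rw [← Scheme.Hom.app_eq_appLE]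
    exact CategoryTheory.congr_fun (NatTrans.congr_app A.π_c_gammaMap (op V.1)) r
  let jB : Γ(E, V.1) →ₗ[R] B :=
    { toFun := fun t => γ.symm (jU j V.1 t)
      map_add' := fun a b => by rw [map_add, map_add]
      map_smul' := fun r t => γ.injective <| by
        rw [RingEquiv.apply_symm_apply, Algebra.smul_def, map_mul, RingHom.id_apply,
          RingEquiv.apply_symm_apply, hγ0, jU_smul] }
  have hB : Function.Bijective (SymmetricAlgebra.lift jB) := by
    have h : (γ : B →+* A.presheaf.obj (op V.1)).comp (SymmetricAlgebra.lift jB).toRingHom =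
        SymAlgX.symLift (A.str.app (op V.1)).hom (jU j V.1) (jU_smul V.1) := by
      refine SymAlgX.sym_ringHom_ext (fun r => ?_) fun t => ?_
      · show γ (SymmetricAlgebra.lift jB (algebraMap _ _ r)) = _
        rw [AlgHom.commutes, hγ0]
        exact (SymAlgX.symLift_algebraMap _ _ _ r).symm
      · show γ (SymmetricAlgebra.lift jB (SymmetricAlgebra.ι _ _ t)) = _
        rw [SymmetricAlgebra.lift_ι_apply]
        exact (γ.apply_symm_apply _).trans (SymAlgX.symLift_ι _ _ _ t).symm
    refine (Function.Bijective.of_comp_iff' γ.bijective _).1 ?_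
    have hb : Function.Bijective
        (SymAlgX.symLift (A.str.app (op V.1)).hom (jU j V.1) (jU_smul V.1)) :=
      SymAlgX.bijective_symLift_app hE hA V.1 (aff V)
    rw [← h] at hb
    exact hb
  -- pulled back sections
  let l : Γ(E, V.1) →ₗ[R] N :=
    { toFun := fun t => QCoh.pullSec A.π E (le_refl W) t
      map_add' := QCoh.pullSec_add A.π E le_rfl
      map_smul' := fun r t => QCoh.pullSec_smul A.π E le_rfl r t }
  have hl : IsBaseChange B l :=
    QCoh.isBaseChange_pullback (aff V) A.π hW hE le_rfl (fun r => rfl) l (fun t => rfl)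
  have hl' : ∀ t, l t = OmegaSh.pullSect A.π E V.1 t := fun t =>
    congr($(((Scheme.Modules.pullback A.π).obj E).presheaf.map_id _) _)
  have hΦ := bijective_lift_symmetricAlgebra jB l hB hl
  set Φ := hl.lift ((KaehlerDifferential.D R B).toLinearMap ∘ₗ jB) with hΦdef
  -- differentials of the derivation
  letI : Module R Γ(Ω', W) := Module.compHom _ (A.π.appLE V.1 W le_rfl).hom
  haveI : IsScalarTower R B Γ(Ω', W) := IsScalarTower.of_algebraMap_smul fun _ _ => rfl
  have hdR : ∀ r : R, d.app W (algebraMap R B r) = 0 := fun r => by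
    show d.app W (A.π.appLE V.1 W le_rfl r) = 0
    rw [← Scheme.Hom.app_eq_appLE]
    exact d.d_app (X := op V.1) r
  let δ : Derivation R B Γ(Ω', W) := Derivation.mk'
    { toFun := d.app W
      map_add' := map_add (d.app W)
      map_smul' := fun r b => by
        show d.app W (r • b) = algebraMap R B r • d.app W b
        rw [Algebra.smul_def]
        refine (d.d_mul (X := op W) _ _).trans ?_
        show algebraMap R B r • d.app W b + b • d.app W (algebraMap R B r) = _
        rw [hdR, smul_zero, add_zero] }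
    fun a b => d.d_mul (X := op W) a b
  let L := δ.liftKaehlerDifferential
  have hL : Function.Bijective L :=
    bijective_of_map_D hd hW (aff V) le_rfl L.toAddMonoidHom (fun b z => L.map_smul b z)
      fun b => δ.liftKaehlerDifferential_comp_D b
  let φW : N →ₗ[B] Γ(Ω', W) :=
    { toFun := φ.app W, map_add' := map_add (φ.app W).hom, map_smul' := fun b x => φ.app_smul b x }
  have hkey : φW = L ∘ₗ Φ := hl.algHom_ext _ _ fun t => by
    show φ.app W (l t) = L (Φ (l t))
    rw [hΦdef, hl.lift_eq, hl']
    refine (hφ V.1 t (jB t) (γ.apply_symm_apply _)).trans ?_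
    exact (δ.liftKaehlerDifferential_comp_D _).symm
  show Function.Bijective φW
  rw [hkey]
  exact hL.comp hΦ

end Groth.Agent.Vb34
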