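import Groth.Agent.RelSpecX.Spec
import Groth.Agent.SymAlgX.Universal
import Groth.Agent.QCoh.Support
import Mathlib.AlgebraicGeometry.Morphisms.FiniteType

/-!
# Vector bundles: finite type, epimorphisms, sums
-/

set_option autoImplicit false
set_option linter.style.haveILetI false

universe u

open CategoryTheory CategoryTheory.Limits AlgebraicGeometry TopologicalSpace Opposite

namespace Groth.Agent.Vb34

variable {S : Scheme.{u}}

/-- An affine open is affine. -/
theorem aff (U : S.affineOpens) : IsAffineOpen (U.1 : S.Opens) := U.2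

theorem mem_range_ι (A : RelSpec.QCAlg S) {U : S.Opens} (hU : IsAffineOpen U) (x : A.spec) :
    x ∈ (A.ι U hU).opensRange ↔ A.π x ∈ U := by
  rw [← A.π_preimage U hU]
  rfl

theorem iSup_range_ι (A : RelSpec.QCAlg S) :
    ⨆ U : S.affineOpens, (A.ι U.1 (aff U)).opensRange = ⊤ := by
  refine eq_top_iff.2 fun x _ => ?_
  obtain ⟨U, hU⟩ := Opens.mem_iSup.1
    (show A.π x ∈ ⨆ U : S.affineOpens, (U.1 : S.Opens) by rw [iSup_affineOpens_eq_top S]; trivial)
  exact Opens.mem_iSup.2 ⟨U, (mem_range_ι A (aff U) x).2 hU⟩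

/-- Affine-locally finitely generated algebras give morphisms of finite type. -/
theorem locallyOfFiniteType_π (A : RelSpec.QCAlg S)
    (h : ∀ U : S.affineOpens, (A.str.app (op U.1)).hom.FiniteType) : LocallyOfFiniteType A.π := by
  haveI : IsZariskiLocalAtSource @LocallyOfFiniteType.{u} :=
    HasRingHomProperty.instIsZariskiLocalAtSource
  refine IsZariskiLocalAtSource.of_openCover (P := @LocallyOfFiniteType.{u})
    (A.spec.openCoverOfIsOpenCover _ (iSup_range_ι A)) fun U => ?_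
  show LocallyOfFiniteType ((A.ι U.1 (aff U)).opensRange.ι ≫ A.π)
  rw [← Scheme.Hom.isoOpensRange_inv_comp (A.ι U.1 (aff U)), Category.assoc, A.ι_π U.1 U.2]
  haveI : LocallyOfFiniteType (Spec.map (A.str.app (op U.1))) :=
    (HasRingHomProperty.Spec_iff (P := @LocallyOfFiniteType)).mpr (h U)
  haveI := (aff U).isOpenImmersion_fromSpec
  exact MorphismProperty.comp_mem @LocallyOfFiniteType.{u} _ _ inferInstance
    (MorphismProperty.comp_mem @LocallyOfFiniteType.{u} _ _ inferInstance inferInstance)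

theorem isPullback_specMap {A B : RelSpec.QCAlg S} (φ : A ⟶ B) (U : S.Opens) (hU : IsAffineOpen U) :
    IsPullback (B.ι U hU) (Spec.map (φ.hom.app (op U))) (RelSpec.QCAlg.specMap φ) (A.ι U hU) := by
  refine IsPullback.of_bot ?_
    (RelSpec.QCAlg.ι_specMap U hU φ) (RelSpecX.isPullback_ι U hU)
  rw [RelSpec.QCAlg.specMap_π, ← Spec.map_comp, ← NatTrans.comp_app, φ.comm]
  exact RelSpecX.isPullback_ι U hU

theorem isClosedImmersion_specMap {A B : RelSpec.QCAlg S} (φ : A ⟶ B)
    (h : ∀ U : S.affineOpens, Function.Surjective (φ.hom.app (op U.1)).hom) :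
    IsClosedImmersion (RelSpec.QCAlg.specMap φ) := by
  refine (IsZariskiLocalAtTarget.iff_of_iSup_eq_top (P := @IsClosedImmersion) _ (iSup_range_ι A)).2
    fun U => ?_
  rw [MorphismProperty.arrow_mk_iso_iff @IsClosedImmersion
      (morphismRestrictOpensRange (RelSpec.QCAlg.specMap φ) (A.ι U.1 (aff U))),
    ← MorphismProperty.cancel_left_of_respectsIso @IsClosedImmersion
      (isPullback_specMap φ U.1 (aff U)).isoPullback.hom,
    (isPullback_specMap φ U.1 (aff U)).isoPullback_hom_snd]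
  exact IsClosedImmersion.spec_of_surjective _ (h U)

/-- A square of relative spectra is a pullback if the affine squares of algebras are pushouts. -/
theorem isPullback_of_isPushout {AE AF A : RelSpec.QCAlg S} (ψE : AE ⟶ A) (ψF : AF ⟶ A)
    (h : ∀ U : S.affineOpens, IsPushout (AE.str.app (op U.1)) (AF.str.app (op U.1))
      (ψE.hom.app (op U.1)) (ψF.hom.app (op U.1))) :
    IsPullback (RelSpec.QCAlg.specMap ψE) (RelSpec.QCAlg.specMap ψF) AE.π AF.π := by
  have sq : RelSpec.QCAlg.specMap ψE ≫ AE.π = RelSpec.QCAlg.specMap ψF ≫ AF.π := by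
    rw [RelSpec.QCAlg.specMap_π, RelSpec.QCAlg.specMap_π]
  let w := pullback.lift _ _ sq
  suffices IsIso w from IsPullback.of_iso_pullback ⟨sq⟩ (asIso w)
    (pullback.lift_fst _ _ _) (pullback.lift_snd _ _ _)
  let q := pullback.snd AE.π AF.π ≫ AF.π
  have hwq : w ≫ q = A.π := by
    rw [← Category.assoc, pullback.lift_snd, RelSpec.QCAlg.specMap_π]
  have hk : ∀ U : S.affineOpens,
      IsPullback (A.ι U.1 (aff U) ≫ w) (Spec.map (A.str.app (op U.1))) q (aff U).fromSpec := fun U => by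
    have h1 : IsPullback (Spec.map (ψE.hom.app (op U.1)) ≫ AE.ι U.1 (aff U))
        (Spec.map (ψF.hom.app (op U.1))) AE.π (AF.ι U.1 (aff U) ≫ AF.π) := by
      rw [AF.ι_π]
      exact (isPullback_SpecMap_of_isPushout _ _ _ _ (h U)).paste_horiz
        (RelSpecX.isPullback_ι U.1 (aff U))
    have h2 : IsPullback (A.ι U.1 (aff U) ≫ w) (Spec.map (ψF.hom.app (op U.1)))
        (pullback.snd AE.π AF.π) (AF.ι U.1 (aff U)) := by
      refine IsPullback.of_right ?_ ?_ (IsPullback.of_hasPullback AE.π AF.π)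
      · rw [Category.assoc, pullback.lift_fst, RelSpec.QCAlg.ι_specMap]
        exact h1
      · rw [Category.assoc, pullback.lift_snd, RelSpec.QCAlg.ι_specMap]
    have h3 := h2.paste_vert (RelSpecX.isPullback_ι U.1 (aff U))
    rwa [← Spec.map_comp, ← NatTrans.comp_app, ψF.comm] at h3
  haveI : ∀ U : S.affineOpens, IsOpenImmersion (A.ι U.1 (aff U) ≫ w) := fun U =>
    MorphismProperty.of_isPullback (hk U).flip inferInstance
  refine (IsZariskiLocalAtTarget.iff_of_iSup_eq_top (P := MorphismProperty.isomorphisms Scheme.{u})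
    (fun U : S.affineOpens => (A.ι U.1 (aff U) ≫ w).opensRange) ?_).2 fun U => ?_
  · refine eq_top_iff.2 fun x _ => ?_
    obtain ⟨U, hU⟩ := Opens.mem_iSup.1
      (show q x ∈ ⨆ U : S.affineOpens, (U.1 : S.Opens) by rw [iSup_affineOpens_eq_top S]; trivial)
    refine Opens.mem_iSup.2 ⟨U, ?_⟩
    have hr : q x ∈ Set.range (aff U).fromSpec := by rwa [(aff U).range_fromSpec]
    obtain ⟨z, hz⟩ := hr
    obtain ⟨t, ht, -⟩ := Scheme.Pullback.exists_preimage_pullback (f := q) (g := (aff U).fromSpec)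
      x z hz.symm
    exact ⟨(hk U).isoPullback.inv t, by
      rw [← Scheme.Hom.comp_apply, IsPullback.isoPullback_inv_fst]; exact ht⟩
  have hw : IsPullback (A.ι U.1 (aff U)) (𝟙 _) w (A.ι U.1 (aff U) ≫ w) := by
    refine IsPullback.of_bot ?_ (by rw [Category.id_comp]) (hk U)
    rw [Category.id_comp, hwq]
    exact RelSpecX.isPullback_ι U.1 (aff U)
  rw [MorphismProperty.arrow_mk_iso_iff (MorphismProperty.isomorphisms Scheme.{u})
      (morphismRestrictOpensRange w (A.ι U.1 (aff U) ≫ w)),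
    ← MorphismProperty.cancel_left_of_respectsIso (MorphismProperty.isomorphisms Scheme.{u})
      hw.isoPullback.hom, hw.isoPullback_hom_snd]
  exact inferInstanceAs (IsIso _)

section Sym

variable {E : S.Modules} {A : RelSpec.QCAlg S} {j : E ⟶ A.toModule}

/-- The generating map on sections, with ring target. -/
noncomputable def jU {E : S.Modules} {A : RelSpec.QCAlg S} (j : E ⟶ A.toModule) (U : S.Opens) :
    Γ(E, U) →+ A.presheaf.obj (op U) := (j.app U).hom

theorem jU_smul (U : S.Opens) (r : Γ(S, U)) (x : Γ(E, U)) :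
    jU j U (r • x) = (A.str.app (op U)).hom r * jU j U x := Scheme.Modules.Hom.app_smul j r x

theorem finiteType_str (hE : Coh.IsCoh E) (hA : RelSpec.IsSymAlg E A j) (U : S.affineOpens) :
    (A.str.app (op U.1)).hom.FiniteType := by
  classical
  haveI := QCoh.finite_sections hE U.2
  obtain ⟨t, ht⟩ := Module.finite_def.1 ‹Module.Finite Γ(S, U.1) Γ(E, U.1)›
  letI := (A.str.app (op U.1)).hom.toAlgebra
  refine ⟨⟨Finset.image (jU j U.1) t, ?_⟩⟩
  refine eq_top_iff.2 fun a _ => ?_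
  let F : SymmetricAlgebra Γ(S, U.1) Γ(E, U.1) →+* A.presheaf.obj (op U.1) :=
    SymAlgX.symLift (A.str.app (op U.1)).hom (jU j U.1) (jU_smul U.1)
  obtain ⟨b, rfl⟩ : ∃ b, F b = a := (SymAlgX.bijective_symLift_app hE.1 hA U.1 U.2).2 a
  induction b using SymmetricAlgebra.induction with
  | algebraMap r =>
    rw [show F (algebraMap _ _ r) = (A.str.app (op U.1)).hom r from SymAlgX.symLift_algebraMap _ _ _ r]
    exact Subalgebra.algebraMap_mem _ r
  | ι x =>
    rw [show F (SymmetricAlgebra.ι _ _ x) = jU j U.1 x from SymAlgX.symLift_ι _ _ _ x]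
    rename_i hh
    clear hh
    have hx : x ∈ Submodule.span Γ(S, U.1) (t : Set Γ(E, U.1)) := ht ▸ Submodule.mem_top
    induction hx using Submodule.span_induction with
    | mem y hy => exact Algebra.subset_adjoin (Finset.mem_image_of_mem _ hy)
    | zero => rw [map_zero]; exact Subalgebra.zero_mem _
    | add y z _ _ hy hz => rw [map_add]; exact Subalgebra.add_mem _ hy hz
    | smul r y _ hy =>
      rw [jU_smul]
      exact Subalgebra.mul_mem _ (Subalgebra.algebraMap_mem _ r) hy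
  | mul p q hp hq => rw [map_mul]; exact Subalgebra.mul_mem _ (hp trivial) (hq trivial)
  | add p q hp hq => rw [map_add]; exact Subalgebra.add_mem _ (hp trivial) (hq trivial)

theorem surjective_of_epi {F : S.Modules} (hE : Coh.IsQCoh E) (hF : Coh.IsQCoh F) (u : E ⟶ F) [Epi u]
    {B : RelSpec.QCAlg S} {k : F ⟶ B.toModule} (hB : RelSpec.IsSymAlg F B k)
    (ψ : A ⟶ B) (hψ : j ≫ RelSpec.QCAlg.Hom.toModuleMap ψ = u ≫ k) (U : S.affineOpens) :
    Function.Surjective (ψ.hom.app (op U.1)).hom := by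
  intro b
  obtain ⟨c, rfl⟩ := (SymAlgX.bijective_symLift_app hF hB U.1 U.2).2 b
  induction c using SymmetricAlgebra.induction with
  | algebraMap r =>
    exact ⟨(A.str.app (op U.1)).hom r, by
      refine Eq.trans ?_ (SymAlgX.symLift_algebraMap _ _ _ r).symm
      exact CategoryTheory.congr_fun (NatTrans.congr_app ψ.comm (op U.1)) r⟩
  | ι x =>
    obtain ⟨y, rfl⟩ := QCoh.app_surjective_of_epi hE hF u U.2 x
    refine ⟨j.app U.1 y, ?_⟩
    refine Eq.trans ?_ (SymAlgX.symLift_ι (A := B.presheaf.obj (op U.1)) _ _ _ _).symm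
    exact congr($(hψ).app U.1 y)
  | mul p q hp hq =>
    obtain ⟨a, ha⟩ := hp
    obtain ⟨b, hb⟩ := hq
    exact ⟨a * b, by rw [map_mul, map_mul, ha, hb]⟩
  | add p q hp hq =>
    obtain ⟨a, ha⟩ := hp
    obtain ⟨b, hb⟩ := hq
    exact ⟨a + b, by rw [map_add, map_add, ha, hb]⟩

theorem isPushout_biprod {F : S.Modules} (hE : Coh.IsQCoh E) (hF : Coh.IsQCoh F)
    (hEF : Coh.IsQCoh (E ⊞ F))
    {B C : RelSpec.QCAlg S} {k : F ⟶ B.toModule} {l : E ⊞ F ⟶ C.toModule}
    (hA : RelSpec.IsSymAlg E A j) (hB : RelSpec.IsSymAlg F B k)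
    (hC : RelSpec.IsSymAlg (E ⊞ F) C l) (ψA : A ⟶ C) (ψB : B ⟶ C)
    (hψA : j ≫ RelSpec.QCAlg.Hom.toModuleMap ψA = biprod.inl ≫ l)
    (hψB : k ≫ RelSpec.QCAlg.Hom.toModuleMap ψB = biprod.inr ≫ l) (U : S.affineOpens) :
    IsPushout (A.str.app (op U.1)) (B.str.app (op U.1))
      (ψA.hom.app (op U.1)) (ψB.hom.app (op U.1)) := by
  have w : A.str.app (op U.1) ≫ ψA.hom.app (op U.1) = B.str.app (op U.1) ≫ ψB.hom.app (op U.1) := by
    rw [← NatTrans.comp_app, ← NatTrans.comp_app, ψA.comm, ψB.comm]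
  let FC : SymmetricAlgebra Γ(S, U.1) Γ(E ⊞ F, U.1) →+* C.presheaf.obj (op U.1) :=
    SymAlgX.symLift (C.str.app (op U.1)).hom (jU l U.1) (jU_smul U.1)
  have hFC : Function.Bijective FC := SymAlgX.bijective_symLift_app hEF hC U.1 U.2
  let eC : CommRingCat.of (SymmetricAlgebra Γ(S, U.1) Γ(E ⊞ F, U.1)) ≅ C.presheaf.obj (op U.1) :=
    (RingEquiv.ofBijective FC hFC).toCommRingCatIso
  have hFC0 : ∀ r, FC (algebraMap _ _ r) = (C.str.app (op U.1)).hom r := fun r =>
    SymAlgX.symLift_algebraMap _ _ _ r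
  have hFC1 : ∀ x, FC (SymmetricAlgebra.ι _ _ x) = jU l U.1 x := fun x => SymAlgX.symLift_ι _ _ _ x
  let p : Γ(E ⊞ F, U.1) →+ Γ(E, U.1) := ((biprod.fst : E ⊞ F ⟶ E).app U.1).hom
  let p' : Γ(E ⊞ F, U.1) →+ Γ(F, U.1) := ((biprod.snd : E ⊞ F ⟶ F).app U.1).hom
  let i : Γ(E, U.1) →+ Γ(E ⊞ F, U.1) := ((biprod.inl : E ⟶ E ⊞ F).app U.1).hom
  let i' : Γ(F, U.1) →+ Γ(E ⊞ F, U.1) := ((biprod.inr : F ⟶ E ⊞ F).app U.1).hom
  have hsum : ∀ x, i (p x) + i' (p' x) = x := fun x =>
    congr(($(biprod.total (X := E) (Y := F))).app U.1 x)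
  have hi : ∀ x, (ψA.hom.app (op U.1)).hom (jU j U.1 x) = jU l U.1 (i x) := fun x =>
    congr($(hψA).app U.1 x)
  have hi' : ∀ x, (ψB.hom.app (op U.1)).hom (jU k U.1 x) = jU l U.1 (i' x) := fun x =>
    congr($(hψB).app U.1 x)
  have hsA : ∀ r, (ψA.hom.app (op U.1)).hom ((A.str.app (op U.1)).hom r) =
      (C.str.app (op U.1)).hom r := fun r =>
    CategoryTheory.congr_fun (NatTrans.congr_app ψA.comm (op U.1)) r
  have hsB : ∀ r, (ψB.hom.app (op U.1)).hom ((B.str.app (op U.1)).hom r) =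
      (C.str.app (op U.1)).hom r := fun r =>
    CategoryTheory.congr_fun (NatTrans.congr_app ψB.comm (op U.1)) r
  have hext : ∀ {T : CommRingCat.{u}} (a b : C.presheaf.obj (op U.1) ⟶ T),
      ψA.hom.app (op U.1) ≫ a = ψA.hom.app (op U.1) ≫ b →
      ψB.hom.app (op U.1) ≫ a = ψB.hom.app (op U.1) ≫ b → a = b := by
    intro T a b ha hb
    rw [← cancel_epi eC.hom]
    have ha' : ∀ z, a.hom ((ψA.hom.app (op U.1)).hom z) = b.hom ((ψA.hom.app (op U.1)).hom z) :=
      fun z => CategoryTheory.congr_fun ha z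
    have hb' : ∀ z, a.hom ((ψB.hom.app (op U.1)).hom z) = b.hom ((ψB.hom.app (op U.1)).hom z) :=
      fun z => CategoryTheory.congr_fun hb z
    refine CommRingCat.hom_ext (SymAlgX.sym_ringHom_ext (fun r => ?_) fun x => ?_)
    · show a.hom (FC (algebraMap _ _ r)) = b.hom (FC (algebraMap _ _ r))
      rw [hFC0, ← hsA]
      exact ha' _
    · show a.hom (FC (SymmetricAlgebra.ι _ _ x)) = b.hom (FC (SymmetricAlgebra.ι _ _ x))
      rw [hFC1, ← hsum x, map_add, ← hi, ← hi', map_add, map_add, ha', hb']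
  let D : ∀ c : PushoutCocone (A.str.app (op U.1)) (B.str.app (op U.1)),
      SymmetricAlgebra Γ(S, U.1) Γ(E ⊞ F, U.1) →+* c.pt := fun c =>
    SymAlgX.symLift (c.inl.hom.comp (A.str.app (op U.1)).hom)
      ((c.inl.hom.toAddMonoidHom.comp (jU j U.1)).comp p +
        (c.inr.hom.toAddMonoidHom.comp (jU k U.1)).comp p')
      fun r x => by
        show c.inl.hom (jU j U.1 (p (r • x))) + c.inr.hom (jU k U.1 (p' (r • x))) =
          c.inl.hom ((A.str.app (op U.1)).hom r) *
            (c.inl.hom (jU j U.1 (p x)) + c.inr.hom (jU k U.1 (p' x)))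
        rw [show p (r • x) = r • p x from Scheme.Modules.Hom.app_smul _ r x,
          show p' (r • x) = r • p' x from Scheme.Modules.Hom.app_smul _ r x, jU_smul, jU_smul,
          map_mul, map_mul, mul_add]
        refine congrArg (_ + ·) (congrArg (· * _) ?_)
        exact (CategoryTheory.congr_fun c.condition r).symm
  have hpi : ∀ x, p (i x) = x := fun x =>
    congr(($(biprod.inl_fst (X := E) (Y := F))).app U.1 x)
  have hpi' : ∀ x, p' (i' x) = x := fun x =>
    congr(($(biprod.inr_snd (X := E) (Y := F))).app U.1 x)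
  have hz : ∀ x, p' (i x) = 0 := fun x =>
    congr(($(biprod.inl_snd (X := E) (Y := F))).app U.1 x)
  have hz' : ∀ x, p (i' x) = 0 := fun x =>
    congr(($(biprod.inr_fst (X := E) (Y := F))).app U.1 x)
  have hinv : ∀ a, (RingEquiv.ofBijective FC hFC).symm (FC a) = a := fun a =>
    (RingEquiv.ofBijective FC hFC).symm_apply_apply a
  suffices H : ∀ c : PushoutCocone (A.str.app (op U.1)) (B.str.app (op U.1)),
      ψA.hom.app (op U.1) ≫ eC.inv ≫ CommRingCat.ofHom (D c) = c.inl ∧
        ψB.hom.app (op U.1) ≫ eC.inv ≫ CommRingCat.ofHom (D c) = c.inr from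
    ⟨⟨w⟩, ⟨PushoutCocone.IsColimit.mk w (fun c => eC.inv ≫ CommRingCat.ofHom (D c))
      (fun c => (H c).1) (fun c => (H c).2) fun c m h₁ h₂ =>
        hext _ _ (h₁.trans (H c).1.symm) (h₂.trans (H c).2.symm)⟩⟩
  intro c
  refine ⟨?_, ?_⟩
  · refine CommRingCat.hom_ext (RingHom.ext fun a => ?_)
    obtain ⟨b, rfl⟩ := (SymAlgX.bijective_symLift_app hE hA U.1 U.2).2 a
    revert b
    suffices h : (((eC.inv ≫ CommRingCat.ofHom (D c)).hom).comp (ψA.hom.app (op U.1)).hom).comp
        (SymAlgX.symLift (A.str.app (op U.1)).hom (jU j U.1) (jU_smul U.1)) =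
      c.inl.hom.comp (SymAlgX.symLift (A.str.app (op U.1)).hom (jU j U.1) (jU_smul U.1)) from
      fun b => RingHom.congr_fun h b
    refine SymAlgX.sym_ringHom_ext (fun r => ?_) fun x => ?_
    · simp only [RingHom.comp_apply, SymAlgX.symLift_algebraMap]
      rw [hsA, ← hFC0]
      show D c ((RingEquiv.ofBijective FC hFC).symm (FC _)) = _
      rw [hinv]
      exact SymAlgX.symLift_algebraMap _ _ _ r
    · simp only [RingHom.comp_apply, SymAlgX.symLift_ι]
      rw [hi, ← hFC1]
      show D c ((RingEquiv.ofBijective FC hFC).symm (FC _)) = _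
      rw [hinv]
      refine (SymAlgX.symLift_ι _ _ _ _).trans ?_
      show c.inl.hom (jU j U.1 (p (i x))) + c.inr.hom (jU k U.1 (p' (i x))) = _
      rw [hpi, hz, map_zero, map_zero, add_zero]
  · refine CommRingCat.hom_ext (RingHom.ext fun a => ?_)
    obtain ⟨b, rfl⟩ := (SymAlgX.bijective_symLift_app hF hB U.1 U.2).2 a
    revert b
    suffices h : (((eC.inv ≫ CommRingCat.ofHom (D c)).hom).comp (ψB.hom.app (op U.1)).hom).comp
        (SymAlgX.symLift (B.str.app (op U.1)).hom (jU k U.1) (jU_smul U.1)) =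
      c.inr.hom.comp (SymAlgX.symLift (B.str.app (op U.1)).hom (jU k U.1) (jU_smul U.1)) from
      fun b => RingHom.congr_fun h b
    refine SymAlgX.sym_ringHom_ext (fun r => ?_) fun x => ?_
    · simp only [RingHom.comp_apply, SymAlgX.symLift_algebraMap]
      rw [hsB, ← hFC0]
      show D c ((RingEquiv.ofBijective FC hFC).symm (FC _)) = _
      rw [hinv]
      exact (SymAlgX.symLift_algebraMap _ _ _ r).trans (CategoryTheory.congr_fun c.condition r)
    · simp only [RingHom.comp_apply, SymAlgX.symLift_ι]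
      rw [hi', ← hFC1]
      show D c ((RingEquiv.ofBijective FC hFC).symm (FC _)) = _
      rw [hinv]
      refine (SymAlgX.symLift_ι _ _ _ _).trans ?_
      show c.inl.hom (jU j U.1 (p (i' x))) + c.inr.hom (jU k U.1 (p' (i' x))) = _
      rw [hpi', hz', map_zero, map_zero, zero_add]

end Sym

end Groth.Agent.Vb34
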