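import Groth.Agent.Vb34.Basic
import Groth.Agent.QCoh.AlgGen

/-!
# Affine schemes of finite type as closed subschemes of vector bundles
-/

set_option autoImplicit false
set_option linter.style.haveILetI false

universe u

open CategoryTheory CategoryTheory.Limits AlgebraicGeometry TopologicalSpace Opposite

namespace Groth.Agent.Vb34

theorem exists_closedImmersion_vectorBundle {X Y : Scheme.{u}}
    (hY : (CompactSpace Y ∧ Y.IsSeparated) ∨ NoetherianSpace Y) (f : X ⟶ Y) [IsAffineHom f]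
    [LocallyOfFiniteType f] :
    ∃ (E : Y.Modules) (_ : Coh.IsCoh E) (A : RelSpec.QCAlg Y) (j : E ⟶ A.toModule)
      (_ : RelSpec.IsSymAlg E A j) (i : X ⟶ A.spec), IsClosedImmersion i ∧ i ≫ A.π = f := by
  have hc : CompactSpace Y := by
    rcases hY with ⟨h, -⟩ | h
    · exact h
    · exact ⟨h.isCompact _⟩
  have hs : ∀ U : Y.affineOpens, QCoh.ExtStep (U.1 : Y.Opens) := fun U => by
    rcases hY with ⟨-, h⟩ | h
    · haveI : QuasiSeparatedSpace Y := inferInstance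
      exact QCoh.extStep_qcqs U.2.isCompact
    · exact QCoh.extStep_noetherian (fun x => ⟨⊤, trivial,
        Topology.IsInducing.subtypeVal.noetherianSpace⟩) _
  let B := RelSpec.QCAlg.directImage f
  have hB : ∀ U : Y.affineOpens, (B.str.app (op (U : Y.Opens))).hom.FiniteType := fun U => by
    have h := HasRingHomProperty.appLE (P := @LocallyOfFiniteType.{u}) f ‹_› U
      ⟨f ⁻¹ᵁ U.1, U.2.preimage f⟩ le_rfl
    rw [← Scheme.Hom.app_eq_appLE] at h
    exact h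
  obtain ⟨E, j₀, -, hEq, hEf, hgen⟩ := QCoh.exists_generating_submodule B hs hB
  obtain ⟨A, j, hA⟩ := SymAlgX.exists_isSymAlg E hEq
  obtain ⟨ψ, hψ, -⟩ := hA B j₀
  let ω : AffAlg.alg A.π ⟶ AffAlg.alg f := A.gammaMap ≫ ψ.hom
  have hω : A.π.c ≫ ω = f.c :=
    (Category.assoc _ _ _).symm.trans ((congrArg (· ≫ ψ.hom) A.π_c_gammaMap).trans ψ.comm)
  refine ⟨E, ⟨hEq, hEf⟩, A, j, hA, RelSpecX.ofAlgHom A.π f ⟨ω, hω⟩, ?_, RelSpecX.ofAlgHom_comp _ _ _⟩
  refine RelSpecX.isClosedImmersion_of_surjective A.π f _ (RelSpecX.ofAlgHom_comp _ _ _) fun U => ?_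
  rw [show AffAlg.algHom A.π f (RelSpecX.ofAlgHom A.π f ⟨ω, hω⟩)
    (RelSpecX.ofAlgHom_comp A.π f ⟨ω, hω⟩) = ω from RelSpecX.algHom_ofAlgHom A.π f ⟨ω, hω⟩]
  intro b
  have h1 : Function.Surjective (A.gammaMap.app (op U.1)).hom :=
    haveI : IsIso (A.gammaMap.app (op U.1)) := by
      haveI := RelSpecX.isIso_gammaMap A
      exact NatIso.isIso_app_of_isIso A.gammaMap _
    (ConcreteCategory.bijective_of_isIso (A.gammaMap.app (op U.1))).2
  suffices h2 : (ψ.hom.app (op U.1)).hom.range = ⊤ by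
    obtain ⟨a, ha⟩ : b ∈ (ψ.hom.app (op U.1)).hom.range := by rw [h2]; trivial
    obtain ⟨c, rfl⟩ := h1 a
    exact ⟨c, ha⟩
  rw [eq_top_iff, ← hgen U, Subring.closure_le]
  rintro z (⟨r, rfl⟩ | ⟨e, rfl⟩)
  · exact ⟨(A.str.app (op U.1)).hom r,
      CategoryTheory.congr_fun (NatTrans.congr_app ψ.comm (op U.1)) r⟩
  · exact ⟨j.app U.1 e, congr($(hψ).app U.1 e)⟩

end Groth.Agent.Vb34
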